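import Groth.Agent.Lib.CptBdd19.Main
import Groth.Agent.Lib.HDU.Basic
import Groth.Agent.Lib.KInj.Resolution
import Mathlib.Algebra.Homology.DerivedCategory.Ext.EnoughInjectives
import Mathlib.Algebra.Homology.ExactSequence

/-!
If `Ext^p(X, -)` vanishes above `d`, then there are no maps from `X` into objects of the derived
category concentrated in degrees below `-d`, and `X` is compact if moreover `Ext` commutes with
coproducts.
-/

universe w w' v u

open CategoryTheory CategoryTheory.Limits CategoryTheory.Pretriangulated DerivedCategory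
open HomologicalComplex

namespace GrothLib.CptBdd19

variable {A : Type u} [Category.{v} A] [Abelian A] [HasDerivedCategory.{w'} A]
  [IsGrothendieckAbelian.{v} A] [HasExt.{w} A] {X : A}

set_option backward.isDefEq.respectTransparency false in
theorem eq_zero_of_isLE (d : ℕ) (hd : ∀ (F : A) (p : ℕ), d < p → Subsingleton (Abelian.Ext.{w} X F p))
    (L : DerivedCategory A) (n : ℤ) (hn : n + d < 0) [L.IsLE n]
    (φ : (singleFunctor A 0).obj X ⟶ L) : φ = 0 := by
  obtain ⟨I₀, i, hi, hI, hinj⟩ := KInj.exists_kInjective_resolution A (Q.objPreimage L)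
  have : IsIso (Q.map i) := (DerivedCategory.isIso_Q_map_iff_quasiIso A i).2 hi
  let e : Q.obj I₀ ≅ L := (asIso (Q.map i)).symm ≪≫ Q.objObjPreimageIso L
  have hex : ∀ k : ℤ, n < k → I₀.ExactAt k := fun k hk => by
    rw [exactAt_iff_isZero_homology]
    exact ((DerivedCategory.isLE_iff L n).1 inferInstance k hk).of_iso
      (((homologyFunctorFactors A k).app I₀).symm ≪≫ (homologyFunctor A k).mapIso e)
  let S : ∀ k : ℤ, ShortComplex A := fun k =>
    ShortComplex.mk (I₀.iCycles k) (I₀.toCycles k (k + 1)) (by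
      rw [← cancel_mono (I₀.iCycles (k + 1)), Category.assoc, toCycles_i, iCycles_d, zero_comp])
  have hS : ∀ k : ℤ, n ≤ k → (S k).ShortExact := fun k hk => by
    have hepi : Epi (I₀.toCycles k (k + 1)) := by
      rw [Preadditive.epi_iff_cancel_zero]
      intro P f hf
      have hz : IsZero (I₀.homology (k + 1)) :=
        (exactAt_iff_isZero_homology _ _).1 (hex (k + 1) (by omega))
      let l := (I₀.homologyIsCokernel k (k + 1) (by simp)).desc (CokernelCofork.ofπ f hf)
      have hl : I₀.homologyπ (k + 1) ≫ l = f :=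
        (I₀.homologyIsCokernel k (k + 1) (by simp)).fac (CokernelCofork.ofπ f hf)
          WalkingParallelPair.one
      rw [← hl, hz.eq_zero_of_src l, comp_zero]
    have hex' : (S k).Exact := by
      refine ShortComplex.exact_of_f_is_kernel _ ?_
      exact KernelFork.IsLimit.ofι' _ _ (fun {W} g hg =>
        ⟨I₀.liftCycles g (k + 1) (by simp) (by
          rw [← toCycles_i I₀ k (k + 1), ← Category.assoc, hg, zero_comp]), by simp [S]⟩)
    exact { exact := hex', mono_f := inferInstanceAs (Mono (I₀.iCycles k)), epi_g := hepi }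
  have key : ∀ (q : ℕ) (k : ℤ), k = -(q : ℤ) - 1 → q ≤ d →
      ∀ x : Abelian.Ext.{w} X (I₀.cycles k) (q + 1), x = 0 := by
    intro q
    induction hq : d - q generalizing q with
    | zero =>
        intro k _ hq' x
        exact (hd (I₀.cycles k) (q + 1) (by omega)).elim _ _
    | succ r ih =>
        intro k hk hq' x
        obtain rfl : k = (-(q : ℤ) - 2) + 1 := by omega
        haveI : Injective (S (-(q : ℤ) - 2)).X₂ := hinj _
        obtain ⟨y, rfl⟩ := Abelian.Ext.covariant_sequence_exact₃ X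
          (hS (-(q : ℤ) - 2) (by omega)) x (rfl : q + 1 + 1 = _)
          (ih (q + 1) (by omega) _ (by omega) (by omega) _)
        rw [Abelian.Ext.eq_zero_of_injective y, Abelian.Ext.zero_comp]
  let ψ := (HDU.sglIso (A := A)).inv.app X ≫ φ ≫ e.inv
  obtain ⟨z, hz, hψ⟩ := HDU.exists_ofCycle_Q ψ
  obtain ⟨t, ht⟩ : ∃ t : X ⟶ I₀.X (-1), t ≫ I₀.d (-1) 0 = z := by
    have h0 : (-1 : ℤ) + 1 = 0 := by omega
    let z' : X ⟶ (S (-1)).X₃ := I₀.liftCycles z 1 (by simp) hz ≫ eqToHom (by simp [S])
    obtain ⟨y, hy⟩ := Abelian.Ext.covariant_sequence_exact₃ X (hS (-1) (by omega))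
      (Abelian.Ext.mk₀ z') (rfl : 0 + 1 = _) (key 0 _ (by simp) (Nat.zero_le d) _)
    obtain ⟨t, rfl⟩ := (Abelian.Ext.mk₀_bijective X (S (-1)).X₂).surjective y
    rw [Abelian.Ext.mk₀_comp_mk₀] at hy
    have := (Abelian.Ext.mk₀_bijective X _).injective hy
    refine ⟨t, ?_⟩
    have h2 : t ≫ I₀.toCycles (-1) 0 = I₀.liftCycles z 1 (by simp) hz := by
      simpa [S, z', eqToHom_refl] using this
    simpa using congrArg (· ≫ I₀.iCycles 0) h2
  subst ht
  rw [HDU.Q_map_ofCycle_boundary] at hψ
  have h := congrArg (fun f => (HDU.sglIso (A := A)).hom.app X ≫ f ≫ e.hom) hψ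
  simpa [ψ] using h

/-- **Compactness.** -/
theorem finHom_of_dimension {ι : Type v} (d : ℕ)
    (hd : ∀ (F : A) (p : ℕ), d < p → Subsingleton (Abelian.Ext.{w} X F p))
    (h : ∀ (p : ℕ) (H : ι → A),
      PreservesColimit (Discrete.functor H) ((Abelian.extFunctor.{w} p).obj (Opposite.op X)))
    (M : ι → DerivedCategory A) [HasCoproduct M] :
    TriCat.FinHom M ((singleFunctor A 0).obj X) := by
  haveI := HoCat.derivedCategory_hasColimitsOfShape (C := A) (J := ι)
  let T : ι → Triangle (DerivedCategory A) := fun i =>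
    (TStructure.t.triangleLTGE (-(d : ℤ))).obj (M i)
  refine finHom_ext₂ T (fun i => TStructure.t.triangleLTGE_distinguished _ _) ?_ ?_
  · haveI : ((∐ fun i => (T i).obj₁)).IsLE (-(d : ℤ) - 1) := by
      refine isLE_coproduct _ _ fun i => ?_
      exact inferInstanceAs
        (TStructure.t.IsLE ((TStructure.t.truncLT (-(d : ℤ))).obj (M i)) (-(d : ℤ) - 1))
    exact finHom_of_eq_zero fun φ => eq_zero_of_isLE d hd _ (-(d : ℤ) - 1) (by omega) φ
  · exact finHom_of_isGE h _ (-(d : ℤ)) fun i =>
      inferInstanceAs (TStructure.t.IsGE ((TStructure.t.truncGE (-(d : ℤ))).obj (M i)) (-(d : ℤ)))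

end GrothLib.CptBdd19
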