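import Groth.Agent.Lib.DerCat.CompactBounded
import Groth.Agent.Lib.TriCat.Coproduct
import Groth.Agent.Lib.HoCat.DerivedCoproduct
import Mathlib.Algebra.Homology.DerivedCategory.Ext.Basic
import Mathlib.Algebra.Homology.DerivedCategory.Ext.ExactSequences
import Mathlib.Algebra.Homology.DerivedCategory.TStructure
import Mathlib.CategoryTheory.Triangulated.TStructure.TruncLTGE
import Mathlib.CategoryTheory.Limits.Preserves.Shapes.Products
import Mathlib.Algebra.Category.Grp.Colimits
import Mathlib.Algebra.Category.Grp.EpiMono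

/-!
An object `X` of an abelian category with exact coproducts such that every `Ext^p(X, -)` commutes
with coproducts is compact in the derived category for uniformly bounded below families.
-/

universe w w' v u

open CategoryTheory CategoryTheory.Limits CategoryTheory.Pretriangulated DerivedCategory

namespace GrothLib.CptBdd19

variable {A : Type u} [Category.{v} A] [Abelian A] [HasDerivedCategory.{w'} A]

section Fin

variable {D : Type*} [Category D] [Preadditive D] {ι : Type*}

theorem finHom_of_family_iso {X Y : ι → D} [HasCoproduct X] [HasCoproduct Y] (e : ∀ i, X i ≅ Y i)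
    {P : D} (h : TriCat.FinHom X P) : TriCat.FinHom Y P := by
  classical
  intro φ
  obtain ⟨d, hd⟩ := h (φ ≫ Limits.Sigma.map fun i => (e i).inv)
  have hφ : φ = PerfAux.homSumToHomCoprod P X d ≫ Limits.Sigma.map fun i => (e i).hom := by
    rw [hd, Category.assoc, Sigma.map_comp_map]
    simp
  change φ ∈ (PerfAux.homSumToHomCoprod P Y).range
  subst hφ
  clear hd h
  induction d using DirectSum.induction_on with
  | zero => rw [map_zero, zero_comp]; exact zero_mem _
  | of i x =>
      rw [TriCat.homSum_of, Category.assoc, Sigma.ι_map, ← Category.assoc]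
      exact TriCat.ι_mem_range Y P i _
  | add a b ha hb => rw [map_add, Preadditive.add_comp]; exact add_mem ha hb

theorem finHom_of_eq_zero {X : ι → D} [HasCoproduct X] {P : D} (h : ∀ φ : P ⟶ ∐ X, φ = 0) :
    TriCat.FinHom X P := fun φ => ⟨0, by rw [map_zero, h φ]⟩

/-- A finite sum of maps into the summands. -/
theorem mem_range_sum {X : ι → D} [HasCoproduct X] {P : D} (s : Finset ι) (y : ∀ i, P ⟶ X i) :
    (∑ i ∈ s, y i ≫ Sigma.ι X i) ∈ (PerfAux.homSumToHomCoprod P X).range :=
  sum_mem fun i _ => TriCat.ι_mem_range X P i _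

theorem exists_sum {X : ι → D} [HasCoproduct X] {P : D} (h : TriCat.FinHom X P) (φ : P ⟶ ∐ X) :
    ∃ (s : Finset ι) (y : ∀ i, P ⟶ X i), φ = ∑ i ∈ s, y i ≫ Sigma.ι X i := by
  classical
  obtain ⟨d, rfl⟩ := h φ
  refine ⟨d.support, fun i => d i, ?_⟩
  conv_lhs => rw [← DirectSum.sum_support_of d]
  rw [map_sum]
  exact Finset.sum_congr rfl fun i _ => TriCat.homSum_of X P i _

variable [HasZeroObject D] [HasShift D ℤ] [∀ n : ℤ, (shiftFunctor D n).Additive] [Pretriangulated D]

/-- The step of the dévissage: maps into a coproduct of extensions. -/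
theorem finHom_ext₂ (T : ι → Triangle D) (hT : ∀ i, T i ∈ distTriang D) {P : D}
    [HasCoproduct fun i => (T i).obj₁] [HasCoproduct fun i => (T i).obj₂]
    [HasCoproduct fun i => (T i).obj₃] [HasCoproduct fun i => (T i).obj₁⟦(1 : ℤ)⟧]
    (h₁ : TriCat.FinHom (fun i => (T i).obj₁) P) (h₃ : TriCat.FinHom (fun i => (T i).obj₃) P) :
    TriCat.FinHom (fun i => (T i).obj₂) P := by
  classical
  intro φ
  let g := Limits.Sigma.map (fun i => (T i).mor₂)
  obtain ⟨s, y, hy⟩ := exists_sum h₃ (φ ≫ g)
  have hlift : ∀ i ∈ s, ∃ z : P ⟶ (T i).obj₂, y i = z ≫ (T i).mor₂ := fun k hk => by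
    refine Triangle.coyoneda_exact₃ _ (hT k) (y k) ?_
    let e : ∐ (fun i => (T i).obj₃) ⟶ ((T k).obj₁)⟦(1 : ℤ)⟧ := Sigma.π _ k ≫ (T k).mor₃
    have h0 : g ≫ e = 0 := by
      refine Sigma.hom_ext _ _ fun j => ?_
      rw [comp_zero]
      dsimp only [g, e]
      rw [Sigma.ι_map_assoc]
      by_cases hj : j = k
      · subst hj
        rw [Sigma.ι_π_eq_id_assoc]
        exact comp_distTriang_mor_zero₂₃ _ (hT j)
      · rw [← Category.assoc (Sigma.ι _ _), Sigma.ι_π_of_ne _ hj, zero_comp, comp_zero]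
    have h2 : (φ ≫ g) ≫ e = y k ≫ (T k).mor₃ := by
      rw [hy, Preadditive.sum_comp, Finset.sum_eq_single k]
      · rw [Category.assoc]; dsimp only [e]; rw [Sigma.ι_π_eq_id_assoc]
      · intro j _ hj
        rw [Category.assoc]; dsimp only [e]
        rw [← Category.assoc (Sigma.ι _ _), Sigma.ι_π_of_ne _ hj, zero_comp, comp_zero]
      · intro hk'; exact absurd hk hk'
    rw [← h2, Category.assoc, h0, comp_zero]
  choose z hz using hlift
  let φ₁ : P ⟶ ∐ fun i => (T i).obj₂ :=
    ∑ i ∈ s.attach, z i.1 i.2 ≫ Sigma.ι (fun i => (T i).obj₂) i.1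
  have h2 : (φ - φ₁) ≫ g = 0 := by
    rw [Preadditive.sub_comp, sub_eq_zero, hy, Preadditive.sum_comp, ← Finset.sum_attach]
    refine Finset.sum_congr rfl fun i _ => ?_
    rw [Category.assoc]
    dsimp only [g]
    rw [Sigma.ι_map, ← Category.assoc, ← hz i.1 i.2]
  obtain ⟨ψ, hψ⟩ := Triangle.coyoneda_exact₂ _ (TriCat.sigmaTriangle_distinguished T hT) _ h2
  obtain ⟨s', x, hx⟩ := exists_sum h₁ ψ
  change φ ∈ (PerfAux.homSumToHomCoprod P _).range
  rw [show φ = (φ - φ₁) + φ₁ by abel]
  refine add_mem ?_ (sum_mem fun i _ => TriCat.ι_mem_range (fun i => (T i).obj₂) P _ _)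
  rw [hψ, hx]
  erw [Preadditive.sum_comp]
  refine sum_mem fun i _ => ?_
  have he : (x i ≫ Sigma.ι (fun i => (T i).obj₁) i) ≫ (Limits.Sigma.map fun i => (T i).mor₁) =
      (x i ≫ (T i).mor₁) ≫ Sigma.ι (fun i => (T i).obj₂) i := by simp
  erw [he]
  exact TriCat.ι_mem_range (fun i => (T i).obj₂) P _ _

end Fin

variable [IsGrothendieckAbelian.{v} A] {ι : Type v}

theorem isGE_coproduct (M : ι → DerivedCategory A) [HasCoproduct M] (a : ℤ)
    (hM : ∀ i, (M i).IsGE a) : (∐ M).IsGE a := by
  choose K hK e using fun i => (M i).exists_iso_Q_obj_of_isGE a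
  let e' : (∐ M) ≅ Q.obj (∐ K) :=
    haveI := HoCat.derivedCategory_hasColimitsOfShape (C := A) (J := ι)
    Sigma.mapIso (fun i => (e i).some) ≪≫ (PreservesCoproduct.iso (Q (C := A)) K).symm
  have : (∐ K).IsStrictlyGE a := by
    rw [CochainComplex.isStrictlyGE_iff]
    intro j hj
    haveI : PreservesColimit (Discrete.functor K) (HomologicalComplex.eval A (ComplexShape.up ℤ) j) :=
      inferInstance
    refine IsZero.of_iso ?_ (PreservesCoproduct.iso (HomologicalComplex.eval A (ComplexShape.up ℤ) j) K)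
    rw [IsZero.iff_id_eq_zero]
    exact Sigma.hom_ext _ _ fun i => ((K i).isZero_of_isStrictlyGE a j hj).eq_of_src _ _
  exact TStructure.t.isGE_of_iso e'.symm a

theorem isLE_coproduct (M : ι → DerivedCategory A) [HasCoproduct M] (a : ℤ)
    (hM : ∀ i, (M i).IsLE a) : (∐ M).IsLE a := by
  choose K hK e using fun i => (M i).exists_iso_Q_obj_of_isLE a
  let e' : (∐ M) ≅ Q.obj (∐ K) :=
    haveI := HoCat.derivedCategory_hasColimitsOfShape (C := A) (J := ι)
    Sigma.mapIso (fun i => (e i).some) ≪≫ (PreservesCoproduct.iso (Q (C := A)) K).symm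
  have : (∐ K).IsStrictlyLE a := by
    rw [CochainComplex.isStrictlyLE_iff]
    intro j hj
    haveI : PreservesColimit (Discrete.functor K) (HomologicalComplex.eval A (ComplexShape.up ℤ) j) :=
      inferInstance
    refine IsZero.of_iso ?_ (PreservesCoproduct.iso (HomologicalComplex.eval A (ComplexShape.up ℤ) j) K)
    rw [IsZero.iff_id_eq_zero]
    exact Sigma.hom_ext _ _ fun i => ((K i).isZero_of_isStrictlyLE a j hj).eq_of_src _ _
  exact TStructure.t.isLE_of_iso e'.symm a

variable {X : A} [HasExt.{w} A]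

/-- `Ext` commutes with the coproduct, on the level of surjectivity. -/
theorem exists_ext_sum (p : ℕ) (H : ι → A)
    [PreservesColimit (Discrete.functor H) ((Abelian.extFunctor p).obj (Opposite.op X))]
    (x : Abelian.Ext.{w} X (∐ H) p) :
    x ∈ ⨆ i, ((((Abelian.extFunctor p).obj (Opposite.op X)).map (Sigma.ι H i)).hom).range := by
  set G := (Abelian.extFunctor.{w} (C := A) p).obj (Opposite.op X)
  let R : AddSubgroup (G.obj (∐ H)) := ⨆ i, ((G.map (Sigma.ι H i)).hom).range
  have hc := isColimitCofanMkObjOfIsColimit G (fun i => H i) (Sigma.ι H) (coproductIsCoproduct H)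
  haveI : R.Normal := ⟨fun a ha g => by rwa [add_comm g a, add_neg_cancel_right]⟩
  have hzero : AddCommGrpCat.ofHom (QuotientAddGroup.mk' R) = 0 := by
    refine Cofan.IsColimit.hom_ext hc _ _ fun i => ?_
    ext y
    change QuotientAddGroup.mk' R (G.map (Sigma.ι H i) y) = 0
    exact (QuotientAddGroup.eq_zero_iff (N := R) _).2
      (AddSubgroup.mem_iSup_of_mem (S := fun i => ((G.map (Sigma.ι H i)).hom).range) i ⟨y, rfl⟩)
  exact (QuotientAddGroup.eq_zero_iff (N := R) _).1 (ConcreteCategory.congr_hom hzero x)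

/-- The family of sheaves in one degree. -/
theorem finHom_single (p : ℕ) (H : ι → A)
    [PreservesColimit (Discrete.functor H) ((Abelian.extFunctor.{w} p).obj (Opposite.op X))]
    [HasCoproduct fun i => ((singleFunctor A 0).obj (H i))⟦(p : ℤ)⟧] :
    TriCat.FinHom (fun i => ((singleFunctor A 0).obj (H i))⟦(p : ℤ)⟧)
      ((singleFunctor A 0).obj X) := by
  classical
  haveI := DerCat.preservesColimit_single (A := A) (ι := ι) 0
  haveI := HoCat.derivedCategory_hasColimitsOfShape (C := A) (J := ι)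
  let F := singleFunctor A 0 ⋙ shiftFunctor (DerivedCategory A) (p : ℤ)
  let e : (∐ fun i => F.obj (H i)) ≅ F.obj (∐ H) := (PreservesCoproduct.iso F H).symm
  have he : ∀ i, Sigma.ι (fun i => F.obj (H i)) i ≫ e.hom = F.map (Sigma.ι H i) := fun i =>
    ι_comp_sigmaComparison F H i
  intro φ
  change φ ∈ (PerfAux.homSumToHomCoprod ((singleFunctor A 0).obj X) (fun i => F.obj (H i))).range
  let x : Abelian.Ext.{w} X (∐ H) p := Abelian.Ext.homEquiv.symm (φ ≫ e.hom)
  have hφ : φ = x.hom ≫ e.inv := by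
    simp [x, Abelian.Ext.hom]
  rw [hφ]
  clear hφ
  have hx := exists_ext_sum (X := X) p H x
  generalize x = y at hx ⊢
  refine AddSubgroup.iSup_induction _ (C := fun (y : Abelian.Ext.{w} X (∐ H) p) =>
    y.hom ≫ e.inv ∈ (PerfAux.homSumToHomCoprod _ (fun i => F.obj (H i))).range) hx ?_ ?_ ?_
  · rintro i _ ⟨z, rfl⟩
    have key : ∀ (z : Abelian.Ext.{w} X (H i) p),
        (z.comp (Abelian.Ext.mk₀ (Sigma.ι H i)) (add_zero p)).hom ≫ e.inv =
          (z.hom : _ ⟶ F.obj (H i)) ≫ Sigma.ι (fun i => F.obj (H i)) i := by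
      intro z
      rw [Abelian.Ext.comp_hom, Abelian.Ext.mk₀_hom, ShiftedHom.comp_mk₀, Category.assoc,
        show (shiftFunctor (DerivedCategory A) (p : ℤ)).map
            ((singleFunctor A 0).map (Sigma.ι H i)) ≫ e.inv = Sigma.ι (fun i => F.obj (H i)) i
          from (Iso.comp_inv_eq e).2 (he i).symm]
    change (Abelian.Ext.comp (z : Abelian.Ext.{w} X (H i) p)
      (Abelian.Ext.mk₀ (Sigma.ι H i)) (add_zero p)).hom ≫ e.inv ∈ _
    erw [key]
    exact TriCat.ι_mem_range (fun i => F.obj (H i)) _ i _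
  · rw [Abelian.Ext.zero_hom, zero_comp]; exact zero_mem _
  · intro a b ha hb
    rw [Abelian.Ext.add_hom, Preadditive.add_comp]; exact add_mem ha hb

/-- **Compactness for uniformly bounded below families.** -/
theorem finHom_of_isGE
    (h : ∀ (p : ℕ) (H : ι → A),
      PreservesColimit (Discrete.functor H) ((Abelian.extFunctor.{w} p).obj (Opposite.op X)))
    (M : ι → DerivedCategory A) [HasCoproduct M] (a : ℤ) (hM : ∀ i, (M i).IsGE a) :
    TriCat.FinHom M ((singleFunctor A 0).obj X) := by
  haveI := HoCat.derivedCategory_hasColimitsOfShape (C := A) (J := ι)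
  obtain ⟨m, hm⟩ : ∃ m : ℕ, (1 : ℤ) - m ≤ a := ⟨(1 - a).toNat, by omega⟩
  have key : ∀ (m : ℕ) (M : ι → DerivedCategory A), (∀ i, (M i).IsGE (1 - m)) →
      TriCat.FinHom M ((singleFunctor A 0).obj X) := by
    intro m
    induction m with
    | zero =>
        intro M hM
        haveI := isGE_coproduct M 1 (by simpa using hM)
        exact finHom_of_eq_zero fun φ => TStructure.t.zero φ 0 1 (by omega)
    | succ m ih =>
        intro M hM
        let b : ℤ := 1 - (m + 1 : ℕ)
        let T : ι → Triangle (DerivedCategory A) := fun i =>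
          (TStructure.t.triangleLTGE (b + 1)).obj (M i)
        refine finHom_ext₂ T (fun i => TStructure.t.triangleLTGE_distinguished _ _) ?_ ?_
        · have hex : ∀ i, ∃ H : A, Nonempty ((T i).obj₁ ≅
              ((singleFunctor A 0).obj H)⟦(m : ℤ)⟧) := fun i => by
            haveI := hM i
            haveI : ((T i).obj₁).IsGE b :=
              inferInstanceAs (TStructure.t.IsGE ((TStructure.t.truncLT (b + 1)).obj (M i)) b)
            haveI : ((T i).obj₁).IsLE b :=
              inferInstanceAs (TStructure.t.IsLE ((TStructure.t.truncLT (b + 1)).obj (M i)) b)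
            obtain ⟨H, ⟨e⟩⟩ := ((T i).obj₁).exists_iso_singleFunctor_obj_of_isGE_of_isLE b
            exact ⟨H, ⟨e ≪≫ (((singleFunctors A).shiftIso (m : ℤ) b 0 (by omega)).app H).symm⟩⟩
          choose H e using hex
          haveI := h m H
          exact finHom_of_family_iso (fun i => (e i).some.symm) (finHom_single m H)
        · refine ih _ fun i => ?_
          have : ((T i).obj₃).IsGE (b + 1) :=
            inferInstanceAs (TStructure.t.IsGE ((TStructure.t.truncGE (b + 1)).obj (M i)) (b + 1))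
          exact TStructure.t.isGE_of_ge _ (1 - (m : ℤ)) (b + 1) (by omega)
  exact key m M fun i => haveI := hM i; TStructure.t.isGE_of_ge _ (1 - (m : ℤ)) a hm

end GrothLib.CptBdd19
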